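import Mathlib.Topology.Constructible
import Mathlib.Topology.NoetherianSpace
import Mathlib.Topology.Sober
import Mathlib.Topology.Inseparable
import Mathlib.Topology.Spectral.Prespectral

/-!
# Constructible sets in general and in Noetherian spaces
-/

set_option autoImplicit false
universe u v

open Topology TopologicalSpace Set

namespace Groth.Agent.ConstrSets

variable {X : Type u} [TopologicalSpace X]

/-- Induction for constructible sets through differences of open retrocompact sets. -/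
theorem sdiff_union_induction {p : Set X → Prop}
    (sdiff : ∀ U V : Set X, IsOpen U → IsRetrocompact U → IsOpen V → IsRetrocompact V → p (U \ V))
    (union : ∀ s t, p s → p t → p (s ∪ t)) {s : Set X} (hs : IsConstructible s) : p s := by
  induction s, hs using BooleanSubalgebra.closure_sdiff_sup_induction with
  | isSublattice =>
    exact ⟨fun s hs t ht => ⟨hs.1.union ht.1, hs.2.union ht.2⟩,
      fun s hs t ht => ⟨hs.1.inter ht.1, hs.2.inter_isOpen ht.2 ht.1⟩⟩
  | bot_mem => exact ⟨isOpen_empty, .empty⟩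
  | top_mem => exact ⟨isOpen_univ, .univ⟩
  | sdiff U hU V hV => exact sdiff U V hU.1 hU.2 hV.1 hV.2
  | sup s _ t _ hs ht => exact union s t hs ht

theorem isRetrocompact_of_isConstructible {s : Set X} (hs : IsConstructible s) :
    IsRetrocompact s := by
  refine sdiff_union_induction (fun U V hUo hU hVo _ W hWc hWo => ?_) (fun _ _ h1 h2 => h1.union h2) hs
  rw [sdiff_eq, inter_right_comm]
  exact (hU hWc hWo).inter_right hVo.isClosed_compl

/-- A constructible set is a finite union of locally closed sets. -/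
theorem exists_fin_union {s : Set X} (hs : IsConstructible s) :
    ∃ (n : ℕ) (Z : Fin n → Set X), (∀ i, IsLocallyClosed (Z i)) ∧ s = ⋃ i, Z i := by
  refine sdiff_union_induction (p := fun s : Set X => ∃ (n : ℕ) (Z : Fin n → Set X),
    (∀ i, IsLocallyClosed (Z i)) ∧ s = ⋃ i, Z i) (fun U V hUo _ hVo _ => ⟨1, fun _ => U \ V,
    fun _ => ⟨U, Vᶜ, hUo, hVo.isClosed_compl, sdiff_eq U V⟩, (iUnion_const _).symm⟩) ?_ hs
  rintro _ _ ⟨n, Z, hZ, rfl⟩ ⟨m, W, hW, rfl⟩
  refine ⟨n + m, Fin.append Z W, Fin.addCases (by simpa using hZ) (by simpa using hW), ?_⟩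
  ext x
  simp only [mem_union, mem_iUnion]
  constructor
  · rintro (⟨i, hi⟩ | ⟨i, hi⟩)
    · exact ⟨Fin.castAdd m i, by simpa using hi⟩
    · exact ⟨Fin.natAdd n i, by simpa using hi⟩
  · rintro ⟨i, hi⟩
    induction i using Fin.addCases with
    | left i => exact .inl ⟨i, by simpa using hi⟩
    | right i => exact .inr ⟨i, by simpa using hi⟩

section Noetherian

variable [NoetherianSpace X]

theorem isConstructible_of_isOpen {U : Set X} (hU : IsOpen U) : IsConstructible U :=
  IsRetrocompact.isConstructible hU fun _ _ _ => NoetherianSpace.isCompact _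

theorem isConstructible_of_isClosed {C : Set X} (hC : IsClosed C) : IsConstructible C :=
  (isConstructible_of_isOpen hC.isOpen_compl).of_compl

theorem isConstructible_of_isLocallyClosed {s : Set X} (hs : IsLocallyClosed s) :
    IsConstructible s := by
  obtain ⟨U, C, hU, hC, rfl⟩ := hs
  exact (isConstructible_of_isOpen hU).inter (isConstructible_of_isClosed hC)

/-- Noetherian induction on closed subsets, split along irreducibility. -/
theorem closed_induction {p : Set X → Prop} (empty : p ∅)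
    (union : ∀ A B : Set X, IsClosed A → IsClosed B → p A → p B → p (A ∪ B))
    (irred : ∀ C : Set X, IsClosed C → IsIrreducible C →
      (∀ D : Set X, IsClosed D → D ⊂ C → p D) → p C)
    {C : Set X} (hC : IsClosed C) : p C := by
  suffices h : ∀ C : Closeds X, p (C : Set X) from h ⟨C, hC⟩
  intro C
  induction C using (wellFounded_lt (α := Closeds X)).induction with
  | _ C ih =>
    rcases (C : Set X).eq_empty_or_nonempty with h | h
    · exact h ▸ empty
    by_cases hi : IsPreirreducible (C : Set X)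
    · exact irred _ C.isClosed ⟨h, hi⟩ fun D hD hDC => ih ⟨D, hD⟩ hDC
    · simp only [isPreirreducible_iff_isClosed_union_isClosed, not_forall, not_or] at hi
      obtain ⟨A, B, hA, hB, hsub, hnA, hnB⟩ := hi
      have hlt : ∀ A : Set X, ∀ hA : IsClosed A, ¬ (C : Set X) ⊆ A → p ((C : Set X) ∩ A) :=
        fun A hA hnA => ih ⟨_, C.isClosed.inter hA⟩
          (inter_subset_left.ssubset_of_ne fun e => hnA (e ▸ inter_subset_right))
      have := union _ _ (C.isClosed.inter hA) (C.isClosed.inter hB) (hlt A hA hnA) (hlt B hB hnB)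
      rwa [← inter_union_distrib_left, inter_eq_left.2 hsub] at this

end Noetherian

/-- If a finite union of locally closed sets is dense in an irreducible set `Z`, it contains a
relatively open dense subset of `Z`. -/
theorem exists_open_of_dense {n : ℕ} {L : Fin n → Set X} (hL : ∀ i, IsLocallyClosed (L i))
    {Z : Set X} (hZ : IsIrreducible Z) (h : Z ⊆ closure ((⋃ i, L i) ∩ Z)) :
    ∃ U : Set X, IsOpen U ∧ (U ∩ Z).Nonempty ∧ U ∩ Z ⊆ ⋃ i, L i := by
  rw [iUnion_inter, closure_iUnion_of_finite] at h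
  classical
  obtain ⟨z, hz, hsub⟩ := isIrreducible_iff_sUnion_isClosed.1 hZ
    (Finset.univ.image fun i => closure (L i ∩ Z))
    (by simp only [Finset.mem_image]; rintro _ ⟨i, _, rfl⟩; exact isClosed_closure)
    (by simpa [sUnion_range] using h)
  obtain ⟨i, -, rfl⟩ := Finset.mem_image.1 hz
  obtain ⟨U, C, hU, hC, hi⟩ := hL i
  have hZC : Z ⊆ C := hsub.trans (hC.closure_subset_iff.2 (hi ▸ inter_subset_left.trans inter_subset_right))
  obtain ⟨z, hzZ⟩ := hZ.nonempty
  obtain ⟨y, hy⟩ := closure_nonempty_iff.1 ⟨z, hsub hzZ⟩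
  exact ⟨U, hU, ⟨y, (hi ▸ hy.1 : y ∈ U ∩ C).1, hy.2⟩,
    fun x hx => mem_iUnion.2 ⟨i, hi ▸ ⟨hx.1, hZC hx.2⟩⟩⟩

theorem exists_open_of_dense' {E : Set X} (hE : IsConstructible E) {Z : Set X}
    (hZ : IsIrreducible Z) (h : Z ⊆ closure (E ∩ Z)) :
    ∃ U : Set X, IsOpen U ∧ (U ∩ Z).Nonempty ∧ U ∩ Z ⊆ E := by
  obtain ⟨n, L, hL, rfl⟩ := exists_fin_union hE
  exact exists_open_of_dense hL hZ h

theorem mem_of_isGenericPoint {Z U : Set X} {ξ : X} (hξ : IsGenericPoint ξ Z) (hU : IsOpen U)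
    (h : (U ∩ Z).Nonempty) : ξ ∈ U :=
  (hξ.mem_open_set_iff hU).2 (by rwa [inter_comm])

theorem subset_closure_open_inter {Z U : Set X} (hZ : IsIrreducible Z) (hU : IsOpen U)
    (h : (U ∩ Z).Nonempty) : Z ⊆ closure (U ∩ Z) :=
  fun x hx => mem_closure_iff.2 fun V hV hxV => by
    obtain ⟨y, hy, hyV, hyU⟩ := hZ.2 V U hV hU ⟨x, hx, hxV⟩ (by rwa [inter_comm])
    exact ⟨y, hyV, hyU, hy⟩

theorem dense_preimage_val_iff {Y E : Set X} :
    Dense (Subtype.val ⁻¹' E : Set Y) ↔ Y ⊆ closure (E ∩ Y) := by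
  rw [Subtype.dense_iff, Subtype.image_preimage_coe, inter_comm Y E]

theorem isNowhereDense_preimage_val_iff {Y E : Set X} (hY : IsIrreducible Y) :
    IsNowhereDense (Subtype.val ⁻¹' E : Set Y) ↔ ¬ Y ⊆ closure (E ∩ Y) := by
  have : IrreducibleSpace Y := Subtype.irreducibleSpace hY
  rw [← dense_preimage_val_iff, IsNowhereDense]
  constructor
  · intro h hd
    rw [hd.closure_eq, interior_univ] at h
    exact (univ_nonempty (α := Y)).ne_empty h
  · intro h
    by_contra hne
    refine h (dense_iff_closure_eq.2 ?_)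
    have := isOpen_interior.dense (nonempty_iff_ne_empty.2 hne)
    exact eq_univ_of_univ_subset (this.closure_eq ▸ closure_minimal interior_subset isClosed_closure)

section Noetherian

variable [NoetherianSpace X]

/-- Criterion to be a neighbourhood in a Noetherian space. -/
theorem mem_nhds_of_forall {x : X} {E : Set X}
    (H : ∀ Y : Set X, IsClosed Y → IsIrreducible Y → x ∈ Y →
      ∃ U : Set X, IsOpen U ∧ (U ∩ Y).Nonempty ∧ U ∩ Y ⊆ E) : E ∈ nhds x := by
  suffices h : ∀ C : Set X, IsClosed C → ∃ U : Set X, IsOpen U ∧ x ∈ U ∧ U ∩ C ⊆ E by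
    obtain ⟨U, hU, hxU, hUE⟩ := h univ isClosed_univ
    exact Filter.mem_of_superset (hU.mem_nhds hxU) (by simpa using hUE)
  intro C hC
  refine closed_induction (p := fun C => ∃ U : Set X, IsOpen U ∧ x ∈ U ∧ U ∩ C ⊆ E)
    ⟨univ, isOpen_univ, trivial, by simp⟩ ?_ ?_ hC
  · rintro A B - - ⟨U, hU, hxU, hUA⟩ ⟨V, hV, hxV, hVB⟩
    refine ⟨U ∩ V, hU.inter hV, ⟨hxU, hxV⟩, ?_⟩
    rw [inter_union_distrib_left]
    exact union_subset ((inter_subset_inter_left _ inter_subset_left).trans hUA)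
      ((inter_subset_inter_left _ inter_subset_right).trans hVB)
  · intro C hC hCi ih
    by_cases hx : x ∈ C
    · obtain ⟨U, hU, ⟨y, hyU, hyC⟩, hUE⟩ := H C hC hCi hx
      obtain ⟨V, hV, hxV, hVE⟩ := ih (C \ U) (hC.sdiff hU)
        ⟨sdiff_subset, fun h => (h hyC).2 hyU⟩
      refine ⟨V, hV, hxV, fun z hz => ?_⟩
      by_cases hzU : z ∈ U
      · exact hUE ⟨hzU, hz.2⟩
      · exact hVE ⟨hz.1, hz.2, hzU⟩
    · exact ⟨Cᶜ, hC.isOpen_compl, hx, fun z hz => absurd hz.2 hz.1⟩

theorem isOpen_of_stableUnderGeneralization [QuasiSober X] {E : Set X} (hE : IsConstructible E)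
    (h : StableUnderGeneralization E) : IsOpen E :=
  isOpen_iff_mem_nhds.2 fun x hx => mem_nhds_of_forall fun Y hY hYi hxY => by
    have hξ := hYi.isGenericPoint_genericPoint hY
    exact exists_open_of_dense' hE hYi (hξ.symm.le.trans
      (closure_mono (singleton_subset_iff.2 ⟨h (hξ.specializes hxY) hx, hξ.mem⟩)))

/-- A directed union of constructible sets covering a Noetherian space, dense on each irreducible
closed subset, stops. -/
theorem exists_eq_univ {ι : Type v} [Preorder ι] [IsDirected ι (· ≤ ·)] [Nonempty ι]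
    (E : ι → Set X) (hmono : Monotone E) (hE : ∀ a, IsConstructible (E a))
    (hirr : ∀ Y : Set X, IsClosed Y → IsIrreducible Y → ∃ a, Y ⊆ closure (E a ∩ Y)) :
    ∃ a, E a = univ := by
  suffices h : ∀ C : Set X, IsClosed C → ∃ a, C ⊆ E a by
    obtain ⟨a, ha⟩ := h univ isClosed_univ
    exact ⟨a, univ_subset_iff.1 ha⟩
  intro C hC
  refine closed_induction (p := fun C => ∃ a, C ⊆ E a)
    ⟨Classical.arbitrary ι, empty_subset _⟩ ?_ ?_ hC
  · rintro A B - - ⟨a, ha⟩ ⟨b, hb⟩
    obtain ⟨c, hac, hbc⟩ := exists_ge_ge a b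
    exact ⟨c, union_subset (ha.trans (hmono hac)) (hb.trans (hmono hbc))⟩
  · intro C hC hCi ih
    obtain ⟨a, ha⟩ := hirr C hC hCi
    obtain ⟨U, hU, ⟨y, hyU, hyC⟩, hUE⟩ := exists_open_of_dense' (hE a) hCi ha
    obtain ⟨b, hb⟩ := ih (C \ U) (hC.sdiff hU) ⟨sdiff_subset, fun h => (h hyC).2 hyU⟩
    obtain ⟨c, hac, hbc⟩ := exists_ge_ge a b
    refine ⟨c, fun z hz => ?_⟩
    by_cases hzU : z ∈ U
    · exact hmono hac (hUE ⟨hzU, hz⟩)
    · exact hmono hbc (hb ⟨hz, hzU⟩)

theorem exists_eq_univ_of_quasiSober [QuasiSober X] {ι : Type v} [Preorder ι]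
    [IsDirected ι (· ≤ ·)] [Nonempty ι] (E : ι → Set X) (hmono : Monotone E)
    (hE : ∀ a, IsConstructible (E a)) (hcov : ⋃ a, E a = univ) : ∃ a, E a = univ :=
  exists_eq_univ E hmono hE fun Y hY hYi => by
    have hξ := hYi.isGenericPoint_genericPoint hY
    obtain ⟨a, ha⟩ := mem_iUnion.1 (hcov ▸ mem_univ hYi.genericPoint)
    exact ⟨a, hξ.symm.le.trans (closure_mono (singleton_subset_iff.2 ⟨ha, hξ.mem⟩))⟩

end Noetherian

section Subspace

theorem isConstructible_preimage_val [PrespectralSpace X] {T E : Set X} (hT : IsRetrocompact T)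
    (hE : IsConstructible E) : IsConstructible ((Subtype.val : T → X) ⁻¹' E) := by
  refine hE.preimage continuous_subtype_val fun U hU hUr K hKc hKo => ?_
  obtain ⟨W, hW, rfl⟩ := isOpen_induced_iff.1 hKo
  rw [Subtype.isCompact_iff, Subtype.image_preimage_coe] at hKc
  obtain ⟨W', hW'c, hW'o, h1, h2⟩ :=
    PrespectralSpace.exists_isCompact_and_isOpen_between hKc hW inter_subset_right
  rw [← preimage_inter, Subtype.isCompact_iff, Subtype.image_preimage_coe]
  have : T ∩ (U ∩ W) = T ∩ (U ∩ W') := by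
    ext z
    exact ⟨fun hz => ⟨hz.1, hz.2.1, h1 ⟨hz.1, hz.2.2⟩⟩, fun hz => ⟨hz.1, hz.2.1, h2 hz.2.2⟩⟩
  rw [this]
  exact hT (hUr hW'c hW'o) (hU.inter hW'o)

theorem isConstructible_image_val {E : Set X} (hE : IsConstructible E) {F : Set E}
    (hF : IsConstructible F) : IsConstructible ((Subtype.val : E → X) '' F) := by
  induction hF using IsConstructible.empty_union_induction with
  | union s _ t _ hs ht => rw [image_union]; exact hs.union ht
  | compl s _ hs =>
    rw [← range_sdiff_image Subtype.val_injective, Subtype.range_coe]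
    exact hE.sdiff hs
  | open_retrocompact V hVo hVr =>
    obtain ⟨W₀, hW₀, rfl⟩ := isOpen_induced_iff.1 hVo
    rw [Subtype.image_preimage_coe]
    have key : ∀ U V' : Set X, IsOpen U → IsRetrocompact U → IsOpen V' → IsRetrocompact V' →
        U \ V' ⊆ E → IsConstructible ((U \ V') ∩ W₀) := by
      intro U V' hU hUr hV' hV'r hsub
      have hr : IsRetrocompact ((W₀ ∩ U) ∪ V') := by
        intro K hKc hKo
        have h1 : IsCompact (E ∩ (U ∩ K)) :=
          isRetrocompact_of_isConstructible hE (hUr hKc hKo) (hU.inter hKo)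
        have h2 : IsCompact ((Subtype.val : E → X) ⁻¹' (U ∩ K)) := by
          rwa [Subtype.isCompact_iff, Subtype.image_preimage_coe]
        have h3 := hVr h2 ((hU.inter hKo).preimage continuous_subtype_val)
        rw [← preimage_inter, Subtype.isCompact_iff, Subtype.image_preimage_coe] at h3
        have h4 := (h3.inter_right hV'.isClosed_compl).union (hV'r hKc hKo)
        convert h4 using 1
        ext z
        by_cases hz : z ∈ V'
        · simp [hz]
        · simp only [mem_inter_iff, mem_union, mem_compl_iff, hz, not_false_eq_true, and_true,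
            or_false, false_and]
          exact ⟨fun h => ⟨hsub ⟨h.1.2, hz⟩, h.1.1, h.1.2, h.2⟩,
            fun h => ⟨⟨h.2.1, h.2.2.1⟩, h.2.2.2⟩⟩
      have := ((hUr.isConstructible hU).inter (hr.isConstructible ((hW₀.inter hU).union hV'))).sdiff
        (hV'r.isConstructible hV')
      convert this using 1
      ext z
      simp only [mem_inter_iff, mem_sdiff, mem_union]
      tauto
    refine (sdiff_union_induction (p := fun s => s ⊆ E → IsConstructible (s ∩ W₀)) key ?_ hE) subset_rfl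
    intro s t hs ht h
    rw [union_inter_distrib_right]
    exact (hs (subset_union_left.trans h)).union (ht (subset_union_right.trans h))

end Subspace

section Strata

/-- The atom of a finite family of sets. -/
def atom {κ : Type} (U : κ → Set X) (A : Set κ) : Set X :=
  (⋂ i ∈ A, U i) ∩ ⋂ i ∈ Aᶜ, (U i)ᶜ

omit [TopologicalSpace X] in
theorem mem_atom {κ : Type} {U : κ → Set X} {A : Set κ} {x : X} :
    x ∈ atom U A ↔ ∀ i, x ∈ U i ↔ i ∈ A := by
  simp only [atom, mem_inter_iff, mem_iInter, mem_compl_iff]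
  exact ⟨fun h i => ⟨fun hx => by_contra fun hi => h.2 i hi hx, h.1 i⟩,
    fun h => ⟨fun i hi => (h i).2 hi, fun i hi hx => hi ((h i).1 hx)⟩⟩

theorem exists_stratification {κ : Type} [Finite κ] (U : κ → Set X) (hU : ∀ i, IsOpen (U i))
    {n : ℕ} (T : Fin n → Set X)
    (hT : ∀ k x y, (∀ i, x ∈ U i ↔ y ∈ U i) → x ∈ T k → y ∈ T k) :
    ∃ (I : Type) (_ : Fintype I) (_ : PartialOrder I) (S : I → Set X),
      (∀ i, IsLocallyClosed (S i) ∧ ((∀ j, IsRetrocompact (U j)) → IsConstructible (S i))) ∧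
      (⋃ i, S i = univ) ∧ (∀ i j, i ≠ j → Disjoint (S i) (S j)) ∧
      (∀ j, closure (S j) ⊆ ⋃ i ∈ Iic j, S i) ∧
      (∀ i k, (S i ∩ T k).Nonempty → S i ⊆ T k) := by
  refine ⟨Set κ, Fintype.ofFinite _, inferInstance, atom U, fun A => ⟨?_, fun hr => ?_⟩, ?_, ?_, ?_, ?_⟩
  · exact ⟨_, _, A.toFinite.isOpen_biInter fun i _ => hU i,
      isClosed_biInter fun i _ => (hU i).isClosed_compl, rfl⟩
  · exact (IsConstructible.biInter A.toFinite fun i _ => (hr i).isConstructible (hU i)).inter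
      (IsConstructible.biInter Aᶜ.toFinite fun i _ => ((hr i).isConstructible (hU i)).compl)
  · exact eq_univ_of_forall fun x => mem_iUnion.2 ⟨{i | x ∈ U i}, mem_atom.2 fun i => Iff.rfl⟩
  · exact fun A B hAB => disjoint_left.2 fun x hA hB =>
      hAB (Set.ext fun i => (mem_atom.1 hA i).symm.trans (mem_atom.1 hB i))
  · intro B x hx
    refine mem_iUnion₂.2 ⟨{i | x ∈ U i}, fun i (hi : x ∈ U i) => ?_, mem_atom.2 fun i => Iff.rfl⟩
    obtain ⟨y, hyU, hy⟩ := mem_closure_iff.1 hx _ (hU i) hi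
    exact (mem_atom.1 hy i).1 hyU
  · rintro A k ⟨x, hx, hxT⟩ y hy
    exact hT k x y (fun i => (mem_atom.1 hx i).trans (mem_atom.1 hy i).symm) hxT

theorem exists_finite_determining {s : Set X} (hs : IsConstructible s) :
    ∃ 𝒰 : Set (Set X), 𝒰.Finite ∧ (∀ U ∈ 𝒰, IsOpen U ∧ IsRetrocompact U) ∧
      ∀ x y, (∀ U ∈ 𝒰, x ∈ U ↔ y ∈ U) → x ∈ s → y ∈ s := by
  refine sdiff_union_induction (p := fun s : Set X => ∃ 𝒰 : Set (Set X), 𝒰.Finite ∧
    (∀ U ∈ 𝒰, IsOpen U ∧ IsRetrocompact U) ∧ ∀ x y, (∀ U ∈ 𝒰, x ∈ U ↔ y ∈ U) → x ∈ s → y ∈ s) ?_ ?_ hs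
  · refine fun U V hU hUr hV hVr => ⟨{U, V}, by simp, ?_, fun x y h hx => ?_⟩
    · rintro _ (rfl | rfl)
      exacts [⟨hU, hUr⟩, ⟨hV, hVr⟩]
    · exact ⟨(h U (by simp)).1 hx.1, fun hy => hx.2 ((h V (by simp)).2 hy)⟩
  · rintro s t ⟨A, hA, hA', hs⟩ ⟨B, hB, hB', ht⟩
    refine ⟨A ∪ B, hA.union hB, fun U hU => hU.elim (hA' U) (hB' U), fun x y h hx => ?_⟩
    exact hx.imp (hs x y fun U hU => h U (.inl hU)) (ht x y fun U hU => h U (.inr hU))

end Strata

section Good

variable [NoetherianSpace X]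

/-- Good stratifications of a closed subset refining given constructible sets. -/
theorem exists_good_stratification (C : Closeds X) :
    ∀ Ps : Set (Set X), Ps.Finite → (∀ P ∈ Ps, IsConstructible P) →
    ∃ Ss : Set (Set X), Ss.Finite ∧ (∀ S ∈ Ss, IsLocallyClosed S) ∧ ⋃₀ Ss = (C : Set X) ∧
      Ss.Pairwise Disjoint ∧
      (∀ S ∈ Ss, ∀ S' ∈ Ss, (S ∩ closure S').Nonempty → S ⊆ closure S') ∧
      (∀ S ∈ Ss, ∀ P ∈ Ps, (S ∩ P).Nonempty → S ⊆ P) := by
  induction C using (wellFounded_lt (α := Closeds X)).induction with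
  | _ C ih =>
  intro Ps hPf hP
  rcases (C : Set X).eq_empty_or_nonempty with hC | hC
  · exact ⟨∅, by simp [hC]⟩
  -- `Y`: a component of `C`; `R`: the union of the others
  obtain ⟨T, hTf, hTc, hTi, hTeq⟩ :=
    NoetherianSpace.exists_finite_set_isClosed_irreducible C.isClosed
  have hTne : T.Nonempty := by
    by_contra h
    rw [not_nonempty_iff_eq_empty.1 h, sUnion_empty] at hTeq
    exact hC.ne_empty hTeq
  obtain ⟨Y, hYT, hYmax⟩ := hTf.exists_maximal hTne
  let R := ⋃₀ (T \ {Y})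
  have hR : IsClosed R := by
    simp only [R, sUnion_eq_biUnion]
    exact hTf.sdiff.isClosed_biUnion fun s hs => hTc s hs.1
  have hY : IsIrreducible Y := hTi Y hYT
  have hYC : Y ⊆ C := hTeq ▸ subset_sUnion_of_mem hYT
  have hYR : ¬ Y ⊆ R := by
    intro h
    classical
    obtain ⟨z, hz, hYz⟩ := isIrreducible_iff_sUnion_isClosed.1 hY (hTf.toFinset.erase Y)
      (fun z hz => hTc z (hTf.mem_toFinset.1 (Finset.mem_erase.1 hz).2))
      (h.trans (sUnion_mono fun s hs => Finset.mem_erase.2 ⟨hs.2, hTf.mem_toFinset.2 hs.1⟩))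
    exact (Finset.mem_erase.1 hz).1
      (hYmax (hTf.mem_toFinset.1 (Finset.mem_erase.1 hz).2) hYz |>.antisymm hYz)
  -- an open of `C` inside `Y` on which every member of `Ps` is constant
  have hW : ∀ P ∈ Ps, ∃ U : Set X, IsOpen U ∧ (U ∩ Y).Nonempty ∧ (U ∩ Y ⊆ P ∨ U ∩ Y ⊆ Pᶜ) := by
    intro P hPm
    by_cases h : Y ⊆ closure (P ∩ Y)
    · obtain ⟨U, h1, h2, h3⟩ := exists_open_of_dense' (hP P hPm) hY h
      exact ⟨U, h1, h2, .inl h3⟩
    · obtain ⟨y, hy, hy'⟩ := not_subset.1 h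
      exact ⟨(closure (P ∩ Y))ᶜ, isClosed_closure.isOpen_compl, ⟨y, hy', hy⟩,
        .inr fun z hz hzP => hz.1 (subset_closure ⟨hzP, hz.2⟩)⟩
  choose! U hUo hUne hUP using hW
  classical
  have hmem : ∀ s ∈ insert Rᶜ (hPf.toFinset.image U), IsOpen s ∧ (Y ∩ s).Nonempty := by
    intro s hs
    rcases Finset.mem_insert.1 hs with rfl | hs
    · obtain ⟨z, hz, hz'⟩ := not_subset.1 hYR
      exact ⟨hR.isOpen_compl, z, hz, hz'⟩
    · obtain ⟨P, hPm, rfl⟩ := Finset.mem_image.1 hs
      exact ⟨hUo P (hPf.mem_toFinset.1 hPm), inter_comm (U P) Y ▸ hUne P (hPf.mem_toFinset.1 hPm)⟩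
  obtain ⟨y, hyY, hy⟩ := isIrreducible_iff_sInter.1 hY (insert Rᶜ (hPf.toFinset.image U))
    (fun s hs => (hmem s hs).1) (fun s hs => (hmem s hs).2)
  let O : Set X := ⋂₀ ↑(insert Rᶜ (hPf.toFinset.image U))
  have hOo : IsOpen O := (Finset.finite_toSet _).isOpen_sInter fun s hs => (hmem s hs).1
  let V : Set X := O ∩ C
  have hOR : O ⊆ Rᶜ := sInter_subset_of_mem (by simp)
  have hVY : V = O ∩ Y := by
    refine subset_antisymm (fun z hz => ⟨hz.1, ?_⟩) (inter_subset_inter_right _ hYC)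
    obtain ⟨s, hs, hzs⟩ := (hTeq ▸ hz.2 : z ∈ ⋃₀ T)
    by_cases hsY : s = Y
    · exact hsY ▸ hzs
    · exact absurd ⟨s, ⟨hs, hsY⟩, hzs⟩ (hOR hz.1)
  have hYne : (O ∩ Y).Nonempty := ⟨y, hy, hyY⟩
  have hclV : closure V = Y := by
    rw [hVY]
    exact (closure_minimal inter_subset_right (hTc Y hYT)).antisymm
      (subset_closure_open_inter hY hOo hYne)
  have hVc : ∀ P ∈ Ps, V ⊆ P ∨ V ⊆ Pᶜ := by
    intro P hPm
    have : O ⊆ U P := sInter_subset_of_mem
      (Finset.mem_insert_of_mem (Finset.mem_image_of_mem U (hPf.mem_toFinset.2 hPm)))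
    rw [hVY]
    exact (hUP P hPm).imp (fun h => (inter_subset_inter_left _ this).trans h)
      (fun h => (inter_subset_inter_left _ this).trans h)
  let C' : Closeds X := ⟨(C : Set X) \ O, C.isClosed.sdiff hOo⟩
  obtain ⟨Ss, hSf, hSl, hSu, hSd, hSg, hSP⟩ := ih C'
    (show (C : Set X) \ O ⊂ C from ⟨sdiff_subset, fun h => (h (hYC hyY)).2 hy⟩)
    (insert Y Ps) (hPf.insert Y) (forall_mem_insert.2 ⟨isConstructible_of_isClosed (hTc Y hYT), hP⟩)
  have hsub : ∀ S ∈ Ss, S ⊆ (C : Set X) \ O := fun S hS => (subset_sUnion_of_mem hS).trans hSu.subset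
  refine ⟨insert V Ss, hSf.insert V, forall_mem_insert.2 ⟨⟨O, C, hOo, C.isClosed, rfl⟩, hSl⟩, ?_, ?_, ?_, ?_⟩
  · rw [sUnion_insert, hSu]
    show O ∩ (C : Set X) ∪ (C : Set X) \ O = C
    rw [inter_comm, inter_union_sdiff]
  · refine hSd.insert fun S hS _ => ?_
    have : Disjoint V S := disjoint_left.2 fun z hz hzS => (hsub S hS hzS).2 hz.1
    exact ⟨this, this.symm⟩
  · rintro S (rfl | hS) S' (rfl | hS') hne
    · exact subset_closure
    · obtain ⟨z, hz, hz'⟩ := hne
      exact absurd hz.1 ((closure_minimal (hsub S' hS') C'.isClosed hz').2)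
    · rw [hclV] at hne ⊢
      exact hSP S hS Y (mem_insert _ _) hne
    · exact hSg S hS S' hS' hne
  · rintro S (rfl | hS) P hPm ⟨z, hz, hzP⟩
    · exact (hVc P hPm).resolve_right fun h => h hz hzP
    · exact hSP S hS P (mem_insert_of_mem _ hPm) ⟨z, hz, hzP⟩

end Good

end Groth.Agent.ConstrSets
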